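import Cfsg.Agent.Class.Asch.Basic
import Cfsg.Agent.Class.Sp.Basic
import Cfsg.Agent.Class.Max.Tens

/-! The adjoint involution of `4 × 4` matrices with respect to the symplectic form. -/

set_option autoImplicit false

namespace Cfsg.Agent.Class.Sp4O

open Cfsg.Geo Cfsg.Agent.Class.Asch Matrix

variable {F : Type*} [Field F]

/-- the index set -/
abbrev I4 : Type := Fin 2 ⊕ Fin 2
/-- `4 × 4` matrices -/
abbrev M4 (F : Type*) := Matrix I4 I4 F
/-- `GL₄` -/
abbrev G4 (F : Type*) [Field F] := GL I4 F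

/-- the adjoint -/
def adj (x : M4 F) : M4 F := -(J (Fin 2) F * xᵀ * J (Fin 2) F)

theorem adj_mul (x y : M4 F) : adj (x * y) = adj y * adj x := by
  have := J_squared (Fin 2) F
  simp only [adj, transpose_mul]
  linear_combination (norm := noncomm_ring) -(J (Fin 2) F * yᵀ) * this * (xᵀ * J (Fin 2) F)

theorem adj_add (x y : M4 F) : adj (x + y) = adj x + adj y := by
  simp only [adj, transpose_add]; noncomm_ring

theorem adj_neg (x : M4 F) : adj (-x) = -adj x := by
  simp only [adj, transpose_neg]; noncomm_ring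

theorem adj_sub (x y : M4 F) : adj (x - y) = adj x - adj y := by
  rw [sub_eq_add_neg, adj_add, adj_neg, sub_eq_add_neg]

theorem adj_smul (c : F) (x : M4 F) : adj (c • x) = c • adj x := by simp [adj]

theorem adj_one : adj (1 : M4 F) = 1 := by simp [adj, J_squared]

theorem adj_adj (x : M4 F) : adj (adj x) = x := by
  have := J_squared (Fin 2) F
  simp only [adj, transpose_neg, transpose_mul, J_transpose, transpose_transpose]
  linear_combination (norm := noncomm_ring) this * x * (J (Fin 2) F * J (Fin 2) F) - x * this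

theorem trace_adj (x : M4 F) : (adj x).trace = x.trace := by
  rw [adj, trace_neg, trace_mul_cycle, J_squared]; simp

theorem mem_sp {g : G4 F} : g ∈ spGL 2 F ↔ adj (g : M4 F) * g = 1 := by
  have := J_squared (Fin 2) F
  refine Sp.mem_iff_preserves.symm.trans (SymplecticGroup.mem_iff'.trans ⟨fun h => ?_, fun h => ?_⟩)
  · change (g : M4 F)ᵀ * _ * g = _ at h
    rw [adj]
    linear_combination (norm := noncomm_ring) -J (Fin 2) F * h - this
  · change (g : M4 F)ᵀ * _ * g = _
    rw [adj] at h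
    linear_combination (norm := noncomm_ring) J (Fin 2) F * h + this * ((g : M4 F)ᵀ * J (Fin 2) F * g)

theorem adj_of_mem {g : G4 F} (h : g ∈ spGL 2 F) : adj (g : M4 F) = ((g⁻¹ : G4 F) : M4 F) :=
  (Units.inv_eq_of_mul_eq_one_left (mem_sp.1 h)).symm

theorem adj_cj {g : G4 F} (h : g ∈ spGL 2 F) (x : M4 F) : adj (cj g x) = cj g (adj x) := by
  rw [cj_apply, adj_mul, adj_mul, adj_of_mem h, adj_of_mem (inv_mem h), inv_inv, cj_apply, mul_assoc]

theorem trace_one4 : (1 : M4 F).trace = 4 := by simp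

theorem exists_of_sa {x : M4 F} (h2 : (2 : F) ≠ 0) (h : adj x = x) : ∃ a b c d e f : F,
    x = fromBlocks !![a, b; c, d] !![0, e; -e, 0] !![0, f; -f, 0] !![a, c; b, d] := by
  have k : ∀ i j, x (.inr j) (.inr i) = x (.inl i) (.inl j) ∧ -x (.inl j) (.inr i) = x (.inl i) (.inr j)
      ∧ -x (.inr j) (.inl i) = x (.inr i) (.inl j) := fun i j => by
    refine ⟨?_, ?_, ?_⟩ <;> rw [← congrFun (congrFun h _) _] <;> fin_cases i <;> fin_cases j <;>
      simp [adj, J, Matrix.mul_apply, Fintype.sum_sum_type]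
  have k1 := k 0 0
  have k2 := k 0 1
  have k3 := k 1 0
  have k4 := k 1 1
  clear k h
  refine ⟨x (.inl 0) (.inl 0), x (.inl 0) (.inl 1), x (.inl 1) (.inl 0), x (.inl 1) (.inl 1),
    x (.inl 0) (.inr 1), x (.inr 0) (.inl 1), ?_⟩
  ext (i | i) (j | j) <;> fin_cases i <;> fin_cases j <;> simp <;> grind

/-- the polarised Pfaffian identity -/
theorem pf (h2 : (2 : F) ≠ 0) {x y : M4 F} (hx : adj x = x) (hy : adj y = y) : ∃ c : F,
    (2 : F) • (x * y + y * x) = x.trace • y + y.trace • x + c • (1 : M4 F) := by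
  obtain ⟨a, b, c, d, e, f, rfl⟩ := exists_of_sa h2 hx
  obtain ⟨a', b', c', d', e', f', rfl⟩ := exists_of_sa h2 hy
  refine ⟨2 * (b * c' + c * b' - a * d' - d * a' - e * f' - f * e'), ?_⟩
  ext (i | i) (j | j) <;> fin_cases i <;> fin_cases j <;>
    simp [mul_apply, Fintype.sum_sum_type, trace, diag, -mul_eq_zero] <;> ring

theorem smul_cancel {c : F} (hc : c ≠ 0) {x y : M4 F} (h : c • x = c • y) : x = y :=
  smul_right_injective _ hc h

theorem four_ne (h2 : (2 : F) ≠ 0) : (4 : F) ≠ 0 := by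
  rw [show (4 : F) = 2 * 2 by norm_num]; exact mul_ne_zero h2 h2

theorem pf0 (h2 : (2 : F) ≠ 0) {x y : M4 F} (hx : adj x = x) (hy : adj y = y) (tx : x.trace = 0)
    (ty : y.trace = 0) {c : F} (h : (x * y).trace = 2 * c) : x * y + y * x = c • 1 := by
  obtain ⟨d, hd⟩ := pf h2 hx hy
  rw [tx, ty, zero_smul, zero_smul, zero_add, zero_add] at hd
  have := congrArg trace hd
  rw [trace_smul, trace_add, trace_mul_comm y, h, trace_smul, trace_one4, smul_eq_mul,
    smul_eq_mul] at this
  refine smul_cancel h2 ?_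
  rw [hd, smul_smul, show d = 2 * c from mul_right_cancel₀ (four_ne h2) (by linear_combination -this)]

theorem pf1 (h2 : (2 : F) ≠ 0) {x : M4 F} (hx : adj x = x) {t : F} (ht : x.trace = 2 * t) :
    ∃ c : F, x * x = t • x + c • (1 : M4 F) := by
  obtain ⟨d, hd⟩ := pf h2 hx hx
  refine ⟨d / 4, smul_cancel (four_ne h2) ?_⟩
  have : (4 : F) * (d / 4) = d := mul_div_cancel₀ _ (four_ne h2)
  rw [smul_add, smul_smul, smul_smul, this]
  rw [ht] at hd
  linear_combination (norm := module) hd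

/-- scalar matrices -/
def Sc (x : M4 F) : Prop := ∃ c : F, x = c • 1

theorem coef {x : M4 F} (hx : ¬ Sc x) {a b : F} (h : a • x = b • (1 : M4 F)) : a = 0 ∧ b = 0 := by
  by_cases ha : a = 0
  · rw [ha, zero_smul, eq_comm, smul_eq_zero] at h
    exact ⟨ha, h.resolve_right one_ne_zero⟩
  · exact absurd ⟨a⁻¹ * b, by rw [mul_smul, ← h, inv_smul_smul₀ ha]⟩ hx

theorem trace_of_quad (h2 : (2 : F) ≠ 0) {x : M4 F} (hx : adj x = x) (hn : ¬ Sc x) {a b : F}
    (h : x * x = a • x + b • (1 : M4 F)) : x.trace = 2 * a := by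
  obtain ⟨c, hc⟩ := pf1 h2 hx (t := x.trace / 2) (by field_simp)
  have := (coef hn (a := x.trace / 2 - a) (b := b - c)
    (by linear_combination (norm := module) h - hc)).1
  field_simp at this
  linear_combination this

theorem Sc.pm {x : M4 F} (h : Sc x) (h1 : adj x * x = 1) : x = 1 ∨ x = -1 := by
  obtain ⟨c, rfl⟩ := h
  rw [adj_smul, adj_one, smul_mul_smul_comm, mul_one] at h1
  have : c * c = 1 := by simpa using congrFun (congrFun h1 (.inl 0)) (.inl 0)
  rcases mul_self_eq_one_iff.1 this with h | h <;> simp [h]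

theorem sc_one : Sc (1 : M4 F) := ⟨1, by simp⟩

theorem Sc.neg {x : M4 F} (h : Sc x) : Sc (-x) := h.elim fun c h => ⟨-c, by simp [h]⟩

/-- the stabiliser of a set of matrices under conjugation -/
def cst [Finite F] (R : Set (M4 F)) : Subgroup (G4 F) where
  carrier := {g | ∀ x ∈ R, cj g x ∈ R}
  one_mem' x hx := by rwa [cj_one]
  mul_mem' ha hb x hx := by rw [cj_mul]; exact ha _ (hb x hx)
  inv_mem' {g} hg x hx := by
    obtain ⟨y, hy, rfl⟩ := ((Set.toFinite R).injOn_iff_bijOn_of_mapsTo hg).1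
      (cj g).injective.injOn |>.surjOn hx
    rwa [cj_inv_cj]

theorem sc_of_comm_tv {x : M4 F}
    (h : ∀ v, x * vecMulVec v (J (Fin 2) F *ᵥ v) = vecMulVec v (J (Fin 2) F *ᵥ v) * x) : Sc x := by
  obtain ⟨c, hc⟩ := Max.exists_smul_of_comm (A := toLin' x) fun v => by
    by_cases hv : v = 0
    · exact ⟨0, by simp [hv]⟩
    obtain ⟨w, hw⟩ := Sp.exists_form_eq_one (m := 2) hv
    have := congrArg (· *ᵥ w) (h v)
    rw [Sp.form_skew, sympForm, neg_eq_iff_eq_neg] at hw
    simp only [← mulVec_mulVec, vecMulVec_mulVec, dotProduct_comm _ w, hw] at this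
    exact ⟨-((J (Fin 2) F *ᵥ v) ⬝ᵥ x *ᵥ w), by simpa [neg_eq_iff_eq_neg, mulVec_neg] using this⟩
  exact ⟨c, ext_mulVec fun v => by simpa [smul_mulVec] using hc v⟩

/-- a finite configuration of self-adjoint matrices gives a proper subgroup -/
theorem mem_of_max [Finite F] (h2 : (2 : F) ≠ 0) {H : Subgroup (G4 F)}
    (hH : IsMaximalIn (spGL 2 F) H) {R : Set (M4 F)} (hR : H ≤ cst R) {x : M4 F} (hx : x ∈ R)
    (sa : adj x = x) (ns : ¬ Sc x) {c : F} (sq : x * x = c • 1)
    (sep : ∀ y ∈ R, x * y + y * x = (2 * c) • 1 → y = x ∨ y = -x) {u : G4 F} (hu : u ∈ spGL 2 F)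
    (hu' : u ∈ cst R) : u ∈ H := by
  rcases hH.2 (cst R ⊓ spGL 2 F) (le_inf hR hH.1.le) inf_le_right with e | e
  · exact e ▸ ⟨hu', hu⟩
  refine absurd (sc_of_comm_tv fun v => ?_) ns
  obtain ⟨N, hN⟩ : ∃ N, N = vecMulVec v (J (Fin 2) F *ᵥ v) := ⟨_, rfl⟩
  have n1 : N * N = 0 := by
    have := Sp.form_self (m := 2) v
    rw [sympForm, dotProduct_comm] at this
    rw [hN, vecMulVec_mul_vecMulVec, this]; simp
  have n2 : N * x * N = 0 := by
    obtain ⟨a, b, c, d, e, f, rfl⟩ := exists_of_sa h2 sa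
    rw [hN, vecMulVec_mul, vecMulVec_mul_vecMulVec, show _ ⬝ᵥ v = 0 by
      simp [J, mulVec, vecMul, dotProduct, Fintype.sum_sum_type]; ring]
    simp
  let t : G4 F := ⟨1 + N, 1 - N, by linear_combination (norm := noncomm_ring) -n1,
    by linear_combination (norm := noncomm_ring) -n1⟩
  have ht : t ∈ spGL 2 F := Sp.mem_iff_preserves.1 (by
    simpa [sympTransvection, ← hN] using Sp.transvection_mem (m := 2) v 1)
  have k : cj t x = x + (N * x - x * N) := by
    change (1 + N) * x * (1 - N) = _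
    linear_combination (norm := noncomm_ring) -n2
  rw [← hN]
  have hc : ((2 * c) • 1 : M4 F) = x * x + x * x := by rw [sq]; module
  have hc' : x * x * N = N * (x * x) := by simp [sq]
  rcases sep _ ((e.ge ht).1 x hx) (by
    rw [k, hc]; linear_combination (norm := noncomm_ring) -hc') with e | e
  · rw [k] at e
    linear_combination (norm := noncomm_ring) -e
  · rw [k] at e
    have e1 : (2 : F) • (N * x) = (2 : F) • 0 := by
      rw [smul_zero, two_smul]
      linear_combination (norm := noncomm_ring) N * e - n1 * x + n2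
    have e2 : (2 : F) • (x * N) = (2 : F) • 0 := by
      rw [smul_zero, two_smul]
      linear_combination (norm := noncomm_ring) e * N + x * n1 - n2
    rw [smul_cancel h2 e1, smul_cancel h2 e2]

end Cfsg.Agent.Class.Sp4O
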